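import Groth.Agent.CurvFam16.Castel.Pencil

/-! Castelnuovo's bound for space curves, in every characteristic. -/

set_option linter.unusedSectionVars false
set_option linter.style.haveILetI false

namespace Groth.Agent.CurvFam16.Castel

open FunFld WithZero
open Groth.Agent.FFLib Groth.Agent.LS17

variable {k K : Type*} [Field k] [IsAlgClosed k] [Field K] [Algebra k K] (hK : IsFunctionField k K)
  {D : Divisor k K} {f : Fin 4 → K} (h : IsBpfSeries D (Submodule.span k (Set.range f)))
  (hli : LinearIndependent k f) {d : ℕ} (hd : D.deg = d)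

include hK h hli hd

theorem ell_nsmul_le (n : ℕ) : ell (n • D) ≤ n * d + 1 := by
  have hne := hli.ne_zero (0 : Fin 4)
  have hnd : n • D + FunFld.div k (f 0 ^ n) = n • (D + FunFld.div k (f 0)) := by
    ext P
    simp [Finsupp.add_apply, div_apply hK.1, ord_pow]
  have hE : (0 : Divisor k K) ≤ n • (D + FunFld.div k (f 0)) := nsmul_nonneg (fun P => by
    rw [Finsupp.add_apply, div_apply hK.1, Finsupp.zero_apply]
    have := (mem_L_iff_ord hne).mp (h.le (Submodule.subset_span ⟨0, rfl⟩)) P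
    omega) n
  have h1 := (ell_le_of_le hK.1 hE).2
  rw [← hnd, ell_add_div hK.1 _ (pow_ne_zero _ hne), ell_zero hK, Divisor.deg_zero, Divisor.deg_add,
    deg_div hK.1, ← natCast_zsmul, deg_zsmul, hd] at h1
  push_cast at h1
  have : ((ell ((n : ℤ) • D) : ℤ)) ≤ ((n * d + 1 : ℕ) : ℤ) := by push_cast; linarith
  rw [natCast_zsmul] at this
  exact_mod_cast this

/-- A surface of degree `(d + 1) / 2` through the curve. -/
theorem exists_surface (hd3 : 1 ≤ d) : ∃ F : MvPolynomial (Fin 4) k, F ≠ 0 ∧ F.IsHomogeneous ((d + 1) / 2) ∧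
    ∀ P, MvPolynomial.eval (evv h P) F = 0 := by
  classical
  set m := (d + 1) / 2
  obtain ⟨hfin, hdim⟩ := finrank_homogeneous k 4 m
  haveI := hfin
  haveI := L_finite hK.1 (m • D)
  let Φ : MvPolynomial.homogeneousSubmodule (Fin 4) k m →ₗ[k] L (m • D) :=
    LinearMap.codRestrict (L (m • D)) ((MvPolynomial.aeval f).toLinearMap ∘ₗ Submodule.subtype _)
      fun G => aeval_mem_L h hK G.2
  have hker : LinearMap.ker Φ ≠ ⊥ := fun e => by
    have h1 := LinearMap.finrank_le_finrank_of_injective (LinearMap.ker_eq_bot.mp e)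
    have h2 : ell (m • D) ≤ m * d + 1 := ell_nsmul_le hK h hli hd m
    have h3 := mul_add_one_lt_choose (show d ≤ 2 * m by omega) (show 1 ≤ m by omega)
    change Module.finrank k (MvPolynomial.homogeneousSubmodule (Fin 4) k m) ≤ ell (m • D) at h1
    omega
  obtain ⟨⟨F, hF⟩, hFk, hF0⟩ := Submodule.exists_mem_ne_zero_of_ne_bot hker
  refine ⟨F, fun e => hF0 (Subtype.ext e), hF, fun P => eval_eq_zero_of_aeval h hK hF ?_ P⟩
  exact congrArg Subtype.val (LinearMap.mem_ker.mp hFk)

variable (hinj : ∀ P Q : Place k K, (∃ c : k, evv h P = c • evv h Q) → P = Q)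
include hinj

open scoped Classical in
/-- Two lines, each with more than half of the points of a plane section, are disjoint. -/
theorem line_eq_of_meet {T T' : Finset (Place k K)} {W W' : Submodule k (Fin 4 → k)}
    (hW : Module.finrank k W ≤ 2) (hW' : Module.finrank k W' ≤ 2)
    (hT : ∀ P ∈ T, evv h P ∈ W) (hT' : ∀ P ∈ T', evv h P ∈ W')
    (hc : d + 2 ≤ T.card + T'.card) (hmeet : W ⊓ W' ≠ ⊥) :
    ∃ P ∈ T ∩ T', ∃ Q ∈ T ∩ T', P ≠ Q := by
  classical
  have hlt : W ⊔ W' < ⊤ := lt_top_iff_ne_top.mpr fun e => by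
    have h1 := Submodule.finrank_sup_add_finrank_inf_eq W W'
    rw [e, finrank_top, Module.finrank_fin_fun] at h1
    have h2 : 1 ≤ Module.finrank k ↥(W ⊓ W') := Submodule.one_le_finrank_iff.mpr hmeet
    omega
  obtain ⟨φ, hφ, hle⟩ := Submodule.exists_le_ker_of_lt_top _ hlt
  have h1 := card_le_deg h hK hli hφ (T ∪ T') fun P hP => by
    rcases Finset.mem_union.mp hP with hP | hP
    · exact hle (Submodule.mem_sup_left (hT P hP))
    · exact hle (Submodule.mem_sup_right (hT' P hP))
  have h2 := Finset.card_union_add_card_inter T T'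
  rw [hd] at h1
  have h3 : 1 < (T ∩ T').card := by omega
  exact Finset.one_lt_card.mp h3

/-- A plane section with all points distinct and no line holding more than half of them. -/
theorem exists_good_section (hd3 : 1 ≤ d) {i₀ : Fin 4}
    (hgen : IntermediateField.adjoin k (Set.range fun i => f i / f i₀) = ⊤) :
    ∃ (χ : Module.Dual k (Fin 4 → k)) (Γ : Finset (Place k K)), χ ≠ 0 ∧ Γ.card = d ∧
      (∀ P ∈ Γ, χ (evv h P) = 0) ∧ LinesLe k (evv h) Γ ((d + 1) / 2) := by
  classical
  set m := (d + 1) / 2 with hmdef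
  obtain ⟨F, hF0, hF, hFX⟩ := exists_surface hK h hli hd hd3
  obtain ⟨c₀, φ, ψ, hc₀, hφc, hψc, hψ, hD, hbf⟩ :=
    exists_pencil hK h (by simp) hli hgen hF hF0 (by omega) hFX
  obtain ⟨B, hB, hgood⟩ := exists_reduced_members hK h hli hψ hD hbf
  let A : Submodule k (Fin 4 → k) := LinearMap.ker φ ⊓ LinearMap.ker ψ
  have hker : ∀ χ : Module.Dual k (Fin 4 → k), χ ≠ 0 → Module.finrank k (LinearMap.ker χ) = 3 := fun χ hχ => by
    have := Module.Dual.finrank_ker_add_one_of_ne_zero hχ
    rw [Module.finrank_fin_fun] at this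
    omega
  have hA2 : Module.finrank k A ≤ 2 := by
    by_contra hgt
    have hle : A ≤ LinearMap.ker ψ := inf_le_right
    have he : A = LinearMap.ker ψ := Submodule.eq_of_le_of_finrank_le hle (by rw [hker ψ hψ]; omega)
    obtain ⟨hE, hdeg⟩ := memb_div h hK hli hψ
    obtain ⟨P, hP⟩ := exists_single_le hK hE (by rw [hdeg, hd]; omega)
    have h1 : ψ (evv h P) = 0 := by
      by_contra h0
      have h2 := (eval_ne_zero_iff h hK hli hψ P).mp h0
      have h3 := hP P
      rw [Finsupp.single_eq_same, Finsupp.add_apply, div_apply hK.1] at h3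
      omega
    have h2 : evv h P ∈ A := he ▸ h1
    exact (hbf P).elim (fun h0 => h0 h2.1) (fun h0 => h0 h1)
  have hA1 : 2 ≤ Module.finrank k A := by
    have h1 := Submodule.finrank_sup_add_finrank_inf_eq (LinearMap.ker φ) (LinearMap.ker ψ)
    have h2 : Module.finrank k ↥(LinearMap.ker φ ⊔ LinearMap.ker ψ) ≤ 4 := by
      simpa using Submodule.finrank_le (LinearMap.ker φ ⊔ LinearMap.ker ψ)
    have h3 : 3 ≤ Module.finrank k (LinearMap.ker φ) := by
      rcases eq_or_ne φ 0 with rfl | hφ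
      · rw [LinearMap.ker_zero, finrank_top, Module.finrank_fin_fun]; omega
      · rw [hker φ hφ]
    have h4 := hker ψ hψ
    show 2 ≤ Module.finrank k ↥(LinearMap.ker φ ⊓ LinearMap.ker ψ)
    omega
  let Bad : Set k := {c | c ∉ B ∧ ∃ (W : Submodule k (Fin 4 → k)) (T : Finset (Place k K)), Module.finrank k W ≤ 2 ∧
    m < T.card ∧ (∀ P ∈ T, evv h P ∈ W) ∧ W ≤ LinearMap.ker (φ - c • ψ)}
  have hpt : ∀ c ∈ Bad, ∃ (W : Submodule k (Fin 4 → k)) (T : Finset (Place k K)) (a : Fin 4 → k),
      Module.finrank k W ≤ 2 ∧ m < T.card ∧ (∀ P ∈ T, evv h P ∈ W) ∧ W ≤ LinearMap.ker (φ - c • ψ) ∧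
        a ≠ 0 ∧ a ∈ W ∧ a ∈ A ∧ MvPolynomial.eval a F = 0 := by
    rintro c ⟨hcB, W, T, hW, hT, hTW, hWle⟩
    have hW2 : 2 ≤ Module.finrank k W := by
      obtain ⟨P, hP, Q, hQ, hPQ⟩ := Finset.one_lt_card.mp (show 1 < T.card by omega)
      have hi := indep_evv h hinj {P, Q}
      have hlt : Submodule.span k {evv h Q} < W :=
        lt_of_le_of_ne ((Submodule.span_singleton_le_iff_mem _ _).mpr (hTW Q hQ))
          fun e => hi.2 P (by simp) Q (by simp) hPQ (e.symm ▸ hTW P hP)
      have := Submodule.finrank_lt_finrank_of_lt hlt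
      rw [finrank_span_singleton (evv_ne_zero h Q)] at this
      omega
    have hAle : A ≤ LinearMap.ker (φ - c • ψ) := fun x hx => by
      simp [LinearMap.mem_ker.mp hx.1, LinearMap.mem_ker.mp hx.2]
    have h1 := Submodule.finrank_mono (sup_le hWle hAle)
    rw [hker _ (hgood c hcB).1] at h1
    have h2 := Submodule.finrank_sup_add_finrank_inf_eq W A
    obtain ⟨a, ha, ha0⟩ := Submodule.exists_mem_ne_zero_of_ne_bot
      (Submodule.one_le_finrank_iff.mp (by omega : 1 ≤ Module.finrank k ↥(W ⊓ A)))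
    exact ⟨W, T, a, hW, hT, hTW, hWle, ha0, ha.1, ha.2, eval_eq_zero_on_line hF (by omega) hW
      (indep_evv h hinj T) hTW (fun P _ => hFX P) (by omega) ha.1⟩
  choose! W T a hW hT hTW hWle ha0 haW haA haF using hpt
  have hBad : Bad.Finite := by
    by_contra hinf
    obtain ⟨S, hS, hScard⟩ := Set.Infinite.exists_subset_card_eq hinf (m + 1)
    have hind : Indep k a S := ⟨fun c hc => ha0 c (hS hc), fun c hc c' hc' hne hmem => by
      have hmeet : W c ⊓ W c' ≠ ⊥ := fun e => by
        have : a c ∈ W c ⊓ W c' := ⟨haW c (hS hc),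
          (Submodule.span_singleton_le_iff_mem _ _).mpr (haW c' (hS hc')) hmem⟩
        rw [e] at this
        exact ha0 c (hS hc) this
      have hcard := hT c (hS hc)
      have hcard' := hT c' (hS hc')
      obtain ⟨P, hP, -⟩ := line_eq_of_meet hK h hli hd hinj (hW c (hS hc)) (hW c' (hS hc'))
        (hTW c (hS hc)) (hTW c' (hS hc')) (by omega) hmeet
      rw [Finset.mem_inter] at hP
      have e1 : (φ - c • ψ) (evv h P) = 0 := hWle c (hS hc) (hTW c (hS hc) P hP.1)
      have e2 : (φ - c' • ψ) (evv h P) = 0 := hWle c' (hS hc') (hTW c' (hS hc') P hP.2)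
      simp only [LinearMap.sub_apply, LinearMap.smul_apply, smul_eq_mul] at e1 e2
      have e3 : ψ (evv h P) = 0 := (mul_eq_zero.mp
        (show (c' - c) * ψ (evv h P) = 0 by linear_combination e1 - e2)).resolve_left (sub_ne_zero.mpr (Ne.symm hne))
      rw [e3, mul_zero, sub_zero] at e1
      exact (hbf P).elim (fun h0 => h0 e1) (fun h0 => h0 e3)⟩
    exact hc₀ (eval_eq_zero_on_line hF (by omega) hA2 hind (fun c hc => haA c (hS hc))
      (fun c hc => haF c (hS hc)) (by omega) (x := c₀) ⟨hφc, hψc⟩)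
  obtain ⟨c, hc⟩ := ((hB.union hBad).infinite_compl).nonempty
  simp only [Set.mem_compl_iff, Set.mem_union, not_or] at hc
  obtain ⟨hne, Γ, hΓ, hΓ0⟩ := hgood c hc.1
  refine ⟨φ - c • ψ, Γ, hne, by rw [hd] at hΓ; exact_mod_cast hΓ, hΓ0, fun a ha b hb hab => ?_⟩
  by_contra hgt
  refine hc.2 ⟨hc.1, line k (evv h) a b, onLine k (evv h) Γ a b, ?_, by omega,
    fun P hP => (mem_onLine.mp hP).2, Submodule.span_le.mpr ?_⟩
  · have := finrank_span_finset_le_card (R := k) ({evv h a, evv h b} : Finset (Fin 4 → k))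
    rw [Set.finrank, Finset.coe_insert, Finset.coe_singleton] at this
    exact this.trans Finset.card_le_two
  · rintro _ (rfl | rfl)
    · exact hΓ0 a ha
    · exact hΓ0 b hb

/-- Independent conditions: the growth of `ell`. -/
theorem ell_step {χ : Module.Dual k (Fin 4 → k)} (hχ : χ ≠ 0) {S : Finset (Place k K)}
    (hS : ∀ P ∈ S, χ (evv h P) = 0) (hl : LinesLe k (evv h) S ((S.card + 1) / 2)) {n : ℕ}
    (hn : S.card ≤ 2 * (n + 1) + 1) : ell (n • D) + S.card ≤ ell ((n + 1) • D) := by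
  classical
  haveI := L_finite hK.1 ((n + 1) • D)
  haveI := L_finite hK.1 (n • D)
  let Ev : L ((n + 1) • D) →ₗ[k] (S → k) :=
    { toFun := fun x P => pv (P : Place k K) ((x : K) / f (j0 h (P : Place k K)) ^ (n + 1))
      map_add' := fun x y => funext fun P => by
        simp only [Submodule.coe_add, add_div, Pi.add_apply]
        exact pv_add hK (val_div_le h x.2) (val_div_le h y.2)
      map_smul' := fun c x => funext fun P => by
        simp only [Submodule.coe_smul, RingHom.id_apply, Pi.smul_apply, smul_eq_mul]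
        rw [smul_div_assoc]
        exact pv_smul hK c (val_div_le h x.2) }
  have hsurj : LinearMap.range Ev = ⊤ := by
    rw [eq_top_iff, ← (Pi.basisFun k S).span_eq, Submodule.span_le]
    rintro _ ⟨⟨P, hP⟩, rfl⟩
    obtain ⟨φ, hφ, hφ0⟩ := exists_duals hP (n := n + 1) hn (indep_evv h hinj S) hl
    have hG : (∏ r, form (φ r)).IsHomogeneous (n + 1) := by
      have := MvPolynomial.IsHomogeneous.prod Finset.univ (fun r => form (φ r)) (fun _ => 1) fun r _ => form_hom (φ r)
      simpa using this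
    set a := MvPolynomial.eval (evv h P) (∏ r, form (φ r)) with hadef
    have ha : a ≠ 0 := by
      rw [hadef, map_prod]
      exact Finset.prod_ne_zero_iff.mpr fun r _ => by rw [eval_form]; exact hφ r
    refine ⟨a⁻¹ • ⟨_, aeval_mem_L h hK hG⟩, funext fun Q => ?_⟩
    rw [map_smul, Pi.smul_apply, Pi.basisFun_apply, smul_eq_mul]
    show a⁻¹ * pv (Q : Place k K) (_ / _) = _
    rw [pv_aeval h hK hG]
    rcases eq_or_ne Q ⟨P, hP⟩ with rfl | hne
    · rw [Pi.single_eq_same, inv_mul_cancel₀ ha]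
    · obtain ⟨r, hr⟩ := hφ0 Q Q.2 fun e => hne (Subtype.ext e)
      rw [Pi.single_eq_of_ne hne, map_prod, Finset.prod_eq_zero (Finset.mem_univ r) (by rw [eval_form, hr]), mul_zero]
  have hmem : ∀ y : L (n • D), memb f χ * (y : K) ∈ L ((n + 1) • D) := fun y => by
    rw [succ_nsmul, add_comm]
    exact mul_mem_L (h.le (memb_mem χ)) y.2
  let M : L (n • D) →ₗ[k] LinearMap.ker Ev :=
    { toFun := fun y => ⟨⟨_, hmem y⟩, LinearMap.mem_ker.mpr (funext fun P => by
        show pv (P : Place k K) (memb f χ * (y : K) / f (j0 h (P : Place k K)) ^ (n + 1)) = 0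
        rw [pow_succ', ← div_mul_div_comm, pv_mul hK (pv_memb h hK χ _).1 (val_div_le h y.2),
          (pv_memb h hK χ _).2, hS _ P.2, zero_mul])⟩
      map_add' := fun x y => Subtype.ext (Subtype.ext (mul_add _ _ _))
      map_smul' := fun c x => Subtype.ext (Subtype.ext (mul_smul_comm _ _ _)) }
  have hM : Function.Injective M := fun x y e => Subtype.ext
    (mul_left_cancel₀ (memb_ne_zero hli hχ) (congrArg (fun z : LinearMap.ker Ev => ((z : L ((n + 1) • D)) : K)) e))
  have h1 := LinearMap.finrank_le_finrank_of_injective hM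
  have h2 := Ev.finrank_range_add_finrank_ker
  rw [hsurj, finrank_top, Module.finrank_fintype_fun_eq_card, Fintype.card_coe] at h2
  simp only [ell] at *
  omega

/-- Castelnuovo's bound. -/
theorem genus_le (hd3 : 3 ≤ d) {i₀ : Fin 4}
    (hgen : IntermediateField.adjoin k (Set.range fun i => f i / f i₀) = ⊤) :
    (genus k K : ℤ) ≤ (d : ℤ) ^ 2 / 4 - d + 1 := by
  classical
  obtain ⟨χ, Γ, hχ, hΓc, hΓ0, hΓl⟩ := exists_good_section hK h hli hd hinj (by omega) hgen
  have hlow : ∀ n, 2 * (n + 1) + 1 ≤ d → ell (n • D) + (2 * (n + 1) + 1) ≤ ell ((n + 1) • D) := fun n hn => by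
    obtain ⟨S, hSΓ, hSc, hSl⟩ := exists_sub (j := n + 1) (indep_evv h hinj Γ) (by omega) (by rwa [hΓc])
    have := ell_step hK h hli hd hinj hχ (fun P hP => hΓ0 P (hSΓ hP))
      (by rwa [hSc, show (2 * (n + 1) + 1 + 1) / 2 = n + 1 + 1 by omega]) (n := n) (by omega)
    omega
  have hhigh : ∀ n, d ≤ 2 * (n + 1) + 1 → ell (n • D) + d ≤ ell ((n + 1) • D) := fun n hn => by
    have := ell_step hK h hli hd hinj hχ hΓ0 (by rwa [hΓc]) (n := n) (by omega)
    omega
  have hsq : ∀ n, 2 * n + 1 ≤ d → (n + 1) * (n + 1) ≤ ell (n • D) := by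
    intro n
    induction n with
    | zero => intro _; rw [zero_smul, ell_zero hK]
    | succ n ih =>
      intro hn
      have := hlow n hn
      have := ih (by omega)
      nlinarith
  obtain ⟨e, he⟩ : ∃ e, d / 2 = e + 1 := ⟨d / 2 - 1, by omega⟩
  have htail : ∀ r, (e + 1) * (e + 1) + r * d ≤ ell ((e + r) • D) := by
    intro r
    induction r with
    | zero => simpa using hsq e (by omega)
    | succ r ih =>
      have := hhigh (e + r) (by omega)
      rw [← Nat.add_assoc]
      nlinarith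
  set g := genus k K
  have hbig : 2 * (g : ℤ) - 2 < ((e + 2 * g) • D).deg := by
    rw [← natCast_zsmul, deg_zsmul, hd]
    push_cast
    nlinarith
  have h1 := ell_of_deg_gt hK hbig
  rw [← natCast_zsmul, deg_zsmul, hd, natCast_zsmul] at h1
  have h2 : (((e + 1) * (e + 1) + 2 * g * d : ℕ) : ℤ) ≤ ell ((e + 2 * g) • D) := by exact_mod_cast htail (2 * g)
  push_cast at h1 h2
  have hg : (g : ℤ) ≤ e * d + 1 - (e + 1) * (e + 1) := by nlinarith
  rcases Nat.even_or_odd d with ⟨r, hr⟩ | ⟨r, hr⟩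
  · obtain rfl : r = e + 1 := by omega
    subst hr
    push_cast at hg ⊢
    rw [show ((e : ℤ) + 1 + (e + 1)) ^ 2 = 4 * ((e + 1) * (e + 1)) by ring,
      Int.mul_ediv_cancel_left _ (by norm_num : (4 : ℤ) ≠ 0)]
    linarith
  · obtain rfl : r = e + 1 := by omega
    subst hr
    push_cast at hg ⊢
    rw [show (2 * ((e : ℤ) + 1) + 1) ^ 2 = 1 + 4 * ((e + 1) * (e + 1) + (e + 1)) by ring,
      Int.add_mul_ediv_left _ _ (by norm_num : (4 : ℤ) ≠ 0)]
    norm_num
    linarith

end Groth.Agent.CurvFam16.Castel
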