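import Mathlib.LinearAlgebra.FiniteDimensional.Lemmas
import Mathlib.LinearAlgebra.Dual.Lemmas
import Mathlib.Data.Fin.Tuple.Sort

/-! Finite configurations of vectors with few collinear ones: conditions imposed on forms. -/

set_option linter.unusedSectionVars false

namespace Groth.Agent.CurvFam16.Castel

open Submodule

variable {k V α : Type*} [Field k] [AddCommGroup V] [Module k V] {v : α → V}

/-- Nonzero, pairwise non-proportional vectors. -/
def Indep (k : Type*) {V α : Type*} [Field k] [AddCommGroup V] [Module k V] (v : α → V) (S : Finset α) : Prop :=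
  (∀ a ∈ S, v a ≠ 0) ∧ ∀ a ∈ S, ∀ b ∈ S, a ≠ b → v a ∉ span k {v b}

theorem Indep.mono {S T : Finset α} (h : Indep k v S) (hT : T ⊆ S) : Indep k v T :=
  ⟨fun a ha => h.1 a (hT ha), fun a ha b hb => h.2 a (hT ha) b (hT hb)⟩

/-- The line through two vectors. -/
abbrev line (k : Type*) {V α : Type*} [Field k] [AddCommGroup V] [Module k V] (v : α → V) (a b : α) :
    Submodule k V := span k {v a, v b}

theorem line_comm (a b : α) : line k v a b = line k v b a := by
  rw [line, line, Set.pair_comm]

theorem line_exchange {a b c : α} (h : v c ∈ line k v a b) (h' : v c ∉ span k {v b}) :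
    line k v c b = line k v a b := by
  have h2 : v a ∈ span k (insert (v c) {v b}) := mem_span_insert_exchange h h'
  refine le_antisymm (span_le.mpr ?_) (span_le.mpr ?_)
  · rintro _ (rfl | rfl)
    · exact h
    · exact subset_span (Or.inr rfl)
  · rintro _ (rfl | rfl)
    · exact h2
    · exact subset_span (Or.inr rfl)

theorem Indep.line_eq {S : Finset α} (hi : Indep k v S) {a b c d : α}
    (hb : b ∈ S) (hc : c ∈ S) (hd : d ∈ S) (hcd : c ≠ d)
    (h1 : v c ∈ line k v a b) (h2 : v d ∈ line k v a b) : line k v c d = line k v a b := by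
  by_cases hcb : c = b
  · subst hcb
    rw [line_comm]
    exact line_exchange h2 (hi.2 d hd c hc (Ne.symm hcd))
  · have e := line_exchange h1 (hi.2 c hc b hb hcb)
    rw [← e, line_comm c b] at h2
    rw [← e, line_comm c d, line_comm c b]
    exact line_exchange h2 (hi.2 d hd c hc (Ne.symm hcd))

open scoped Classical in
/-- The members of `S` on a line. -/
noncomputable def onLine (k : Type*) {V α : Type*} [Field k] [AddCommGroup V] [Module k V] (v : α → V)
    (S : Finset α) (a b : α) : Finset α := S.filter fun Q => v Q ∈ line k v a b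

theorem mem_onLine {S : Finset α} {a b Q : α} : Q ∈ onLine k v S a b ↔ Q ∈ S ∧ v Q ∈ line k v a b := by
  classical simp [onLine]

/-- At most `m` members on each line. -/
def LinesLe (k : Type*) {V α : Type*} [Field k] [AddCommGroup V] [Module k V] (v : α → V)
    (S : Finset α) (m : ℕ) : Prop :=
  ∀ a ∈ S, ∀ b ∈ S, a ≠ b → (onLine k v S a b).card ≤ m

theorem inter_le_one {S : Finset α} [DecidableEq α] (hi : Indep k v S) {a b a' b' : α}
    (hb : b ∈ S) (hb' : b' ∈ S) (hne : line k v a b ≠ line k v a' b') :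
    (onLine k v S a b ∩ onLine k v S a' b').card ≤ 1 := by
  rw [Finset.card_le_one]
  intro c hc d hd
  by_contra hcd
  rw [Finset.mem_inter, mem_onLine, mem_onLine] at hc hd
  exact hne ((hi.line_eq hb hc.1.1 hd.1.1 hcd hc.1.2 hd.1.2).symm.trans
    (hi.line_eq hb' hc.1.1 hd.1.1 hcd hc.2.2 hd.2.2))

theorem exists_sub_step {S : Finset α} {j : ℕ} (hj : 2 ≤ j) (hi : Indep k v S) (hS : S.card = 2 * j + 1)
    (h : LinesLe k v S (j + 1)) : ∃ T ⊆ S, T.card = 2 * j - 1 ∧ LinesLe k v T j := by
  classical
  obtain ⟨P, hPS, hP⟩ : ∃ P ∈ S, ∀ a ∈ S, ∀ b ∈ S, a ≠ b → j + 1 ≤ (onLine k v S a b).card →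
      v P ∈ line k v a b := by
    by_cases h1 : ∃ a ∈ S, ∃ b ∈ S, a ≠ b ∧ j + 1 ≤ (onLine k v S a b).card
    swap
    · obtain ⟨P, hP⟩ := Finset.card_pos.mp (by omega : 0 < S.card)
      exact ⟨P, hP, fun a ha b hb hab hbig => absurd ⟨a, ha, b, hb, hab, hbig⟩ h1⟩
    obtain ⟨a, ha, b, hb, hab, hbig⟩ := h1
    by_cases h2 : ∃ c ∈ S, ∃ e ∈ S, c ≠ e ∧ j + 1 ≤ (onLine k v S c e).card ∧ line k v a b ≠ line k v c e
    swap
    · refine ⟨a, ha, fun c hc e he hce hbig' => ?_⟩
      have : line k v a b = line k v c e := by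
        by_contra hne; exact h2 ⟨c, hc, e, he, hce, hbig', hne⟩
      rw [← this]
      exact subset_span (Or.inl rfl)
    obtain ⟨c, hc, e, he, hce, hbig', hne⟩ := h2
    have hsub : onLine k v S a b ∪ onLine k v S c e ⊆ S := Finset.union_subset
      (fun x hx => (mem_onLine.mp hx).1) (fun x hx => (mem_onLine.mp hx).1)
    have hu := Finset.card_le_card hsub
    have hun := Finset.card_union_add_card_inter (onLine k v S a b) (onLine k v S c e)
    have hin := inter_le_one hi hb he hne
    have hS' : onLine k v S a b ∪ onLine k v S c e = S := Finset.eq_of_subset_of_card_le hsub (by omega)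
    obtain ⟨P, hP⟩ := Finset.card_pos.mp
      (by omega : 0 < (onLine k v S a b ∩ onLine k v S c e).card)
    rw [Finset.mem_inter, mem_onLine, mem_onLine] at hP
    refine ⟨P, hP.1.1, fun p hp q hq hpq hbig'' => ?_⟩
    by_contra hnot
    have hne1 : line k v p q ≠ line k v a b := fun e' => hnot (e' ▸ hP.1.2)
    have hne2 : line k v p q ≠ line k v c e := fun e' => hnot (e' ▸ hP.2.2)
    have i1 := inter_le_one hi hq hb hne1
    have i2 := inter_le_one hi hq he hne2
    have hsplit : onLine k v S p q ⊆ (onLine k v S p q ∩ onLine k v S a b) ∪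
        (onLine k v S p q ∩ onLine k v S c e) := by
      rw [← Finset.inter_union_distrib_left, hS']
      exact fun x hx => Finset.mem_inter.mpr ⟨hx, (mem_onLine.mp hx).1⟩
    have h3 := (Finset.card_le_card hsplit).trans (Finset.card_union_le _ _)
    omega
  obtain ⟨P', hP'⟩ : (S.erase P).Nonempty := by
    rw [← Finset.card_pos, Finset.card_erase_of_mem hPS]; omega
  refine ⟨(S.erase P).erase P', (Finset.erase_subset _ _).trans (Finset.erase_subset _ _), ?_, ?_⟩
  · rw [Finset.card_erase_of_mem hP', Finset.card_erase_of_mem hPS]; omega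
  intro a ha b hb hab
  have haS : a ∈ S := Finset.mem_of_mem_erase (Finset.mem_of_mem_erase ha)
  have hbS : b ∈ S := Finset.mem_of_mem_erase (Finset.mem_of_mem_erase hb)
  by_contra hgt
  have hsub : onLine k v ((S.erase P).erase P') a b ⊆ (onLine k v S a b).erase P := fun x hx => by
    obtain ⟨hx1, hx2⟩ := mem_onLine.mp hx
    have hx1' := Finset.mem_of_mem_erase hx1
    exact Finset.mem_erase.mpr ⟨(Finset.mem_erase.mp hx1').1,
      mem_onLine.mpr ⟨Finset.mem_of_mem_erase hx1', hx2⟩⟩
  have h4 := Finset.card_le_card hsub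
  have h5 := h a haS b hbS hab
  have h6 : (onLine k v S a b).card ≥ j + 1 := by
    have := Finset.card_le_card (Finset.erase_subset P (onLine k v S a b))
    omega
  have h7 := Finset.card_erase_of_mem (mem_onLine.mpr ⟨hPS, hP a haS b hbS hab h6⟩)
  omega

theorem exists_sub_odd : ∀ (i : ℕ) {j : ℕ} {S : Finset α}, Indep k v S → S.card = 2 * (j + i) + 1 →
    LinesLe k v S (j + i + 1) → ∃ T ⊆ S, T.card = 2 * j + 1 ∧ LinesLe k v T (j + 1)
  | 0, _, S, _, hS, h => ⟨S, subset_rfl, hS, h⟩
  | i + 1, j, S, hi, hS, h => by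
    classical
    by_cases hji : j + (i + 1) < 2
    · obtain ⟨P, hP⟩ := Finset.card_pos.mp (by omega : 0 < S.card)
      refine ⟨{P}, Finset.singleton_subset_iff.mpr hP, by rw [Finset.card_singleton]; omega, fun a ha b hb hab => ?_⟩
      rw [Finset.mem_singleton] at ha hb
      exact absurd (ha.trans hb.symm) hab
    · obtain ⟨T, hTS, hT, hT'⟩ := exists_sub_step (by omega) hi hS h
      obtain ⟨T', hT'T, h1, h2⟩ := exists_sub_odd i (j := j) (hi.mono hTS) (by omega) (by
        rwa [show j + i + 1 = j + (i + 1) by omega])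
      exact ⟨T', hT'T.trans hTS, h1, h2⟩

/-- From a configuration with no big line, a configuration of given odd size with no big line. -/
theorem exists_sub {S : Finset α} {j : ℕ} (hi : Indep k v S) (hj : 2 * j + 1 ≤ S.card)
    (h : LinesLe k v S ((S.card + 1) / 2)) : ∃ T ⊆ S, T.card = 2 * j + 1 ∧ LinesLe k v T (j + 1) := by
  classical
  obtain ⟨S', hS', hcard, hl⟩ : ∃ S' ⊆ S, S'.card = 2 * ((S.card - 1) / 2) + 1 ∧
      LinesLe k v S' ((S.card - 1) / 2 + 1) := by
    rcases Nat.even_or_odd S.card with ⟨r, hr⟩ | ⟨r, hr⟩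
    · obtain ⟨P, hP⟩ := Finset.card_pos.mp (by omega : 0 < S.card)
      refine ⟨S.erase P, Finset.erase_subset _ _, by rw [Finset.card_erase_of_mem hP]; omega,
        fun a ha b hb hab => ?_⟩
      have h1 := h a (Finset.mem_of_mem_erase ha) b (Finset.mem_of_mem_erase hb) hab
      have h2 : onLine k v (S.erase P) a b ⊆ onLine k v S a b := fun x hx =>
        mem_onLine.mpr ⟨Finset.mem_of_mem_erase (mem_onLine.mp hx).1, (mem_onLine.mp hx).2⟩
      have := Finset.card_le_card h2
      omega
    · refine ⟨S, subset_rfl, by omega, fun a ha b hb hab => (h a ha b hb hab).trans (by omega)⟩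
  obtain ⟨i, hi'⟩ : ∃ i, (S.card - 1) / 2 = j + i := ⟨(S.card - 1) / 2 - j, by omega⟩
  rw [hi'] at hcard hl
  obtain ⟨T, hT, h1, h2⟩ := exists_sub_odd i (hi.mono hS') hcard hl
  exact ⟨T, hT.trans hS', h1, h2⟩

/-- Few collinear points impose independent conditions on products of `n` linear forms. -/
theorem exists_duals {S : Finset α} {P : α} (hP : P ∈ S) {n : ℕ} (hn : S.card ≤ 2 * n + 1)
    (hi : Indep k v S) (h : LinesLe k v S ((S.card + 1) / 2)) :
    ∃ φ : Fin n → Module.Dual k V, (∀ r, φ r (v P) ≠ 0) ∧ ∀ Q ∈ S, Q ≠ P → ∃ r, φ r (v Q) = 0 := by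
  classical
  set O := S.erase P
  have hc : O.card + 1 = S.card := Finset.card_erase_add_one hP
  set c := O.card
  set N := c / 2 with hN
  let e : Fin c ≃ O := O.equivFin.symm
  let Lines : Finset (Submodule k V) := O.image (fun Q => line k v P Q)
  let lab : Fin c → Fin Lines.card := fun i =>
    Lines.equivFin ⟨line k v P (e i : α), Finset.mem_image_of_mem _ (e i).2⟩
  have hlab : ∀ i i', lab i = lab i' → line k v P (e i : α) = line k v P (e i' : α) := fun i i' hh =>
    congrArg Subtype.val (Lines.equivFin.injective hh)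
  let σ := Tuple.sort lab
  have hmono : Monotone (lab ∘ σ) := Tuple.monotone_sort lab
  let u : Fin c → α := fun i => (e (σ i) : α)
  have huS : ∀ i, u i ∈ S := fun i => Finset.mem_of_mem_erase (e (σ i)).2
  have huP : ∀ i, u i ≠ P := fun i => (Finset.mem_erase.mp (e (σ i)).2).1
  have huinj : Function.Injective u := fun i i' hh => σ.injective (e.injective (Subtype.ext hh))
  have hpair : ∀ i i' : Fin c, (i' : ℕ) = i + N → 1 ≤ N →
      v P ∉ span k {v (u i), v (u i')} := by
    intro i i' hii hN1 hmem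
    have hne : u i ≠ u i' := fun e' => by have := congrArg Fin.val (huinj e'); omega
    have hL : line k v P (u i) = line k v P (u i') := by
      have e1 : line k v P (u i') = line k v (u i) (u i') :=
        line_exchange hmem (hi.2 P hP _ (huS i') (huP i').symm)
      rw [line_comm (u i) (u i')] at e1
      have e2 : line k v P (u i) = line k v (u i') (u i) :=
        line_exchange (by rw [line, Set.pair_comm]; exact hmem) (hi.2 P hP _ (huS i) (huP i).symm)
      exact e2.trans e1.symm
    have hl : (lab ∘ σ) i = (lab ∘ σ) i' := by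
      simp only [lab, Function.comp_apply]
      exact congrArg _ (Subtype.ext hL)
    have hsub : insert P ((Finset.Icc i i').image u) ⊆ onLine k v S P (u i) := fun x hx => by
      rw [Finset.mem_insert, Finset.mem_image] at hx
      rcases hx with rfl | ⟨l, hl', rfl⟩
      · exact mem_onLine.mpr ⟨hP, subset_span (Or.inl rfl)⟩
      · rw [Finset.mem_Icc] at hl'
        have : (lab ∘ σ) l = (lab ∘ σ) i := le_antisymm ((hmono hl'.2).trans_eq hl.symm) (hmono hl'.1)
        have h3 : line k v P (u l) = line k v P (u i) := hlab _ _ this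
        exact mem_onLine.mpr ⟨huS l, h3 ▸ subset_span (Or.inr rfl)⟩
    have h4 := (Finset.card_le_card hsub).trans (h P hP _ (huS i) (huP i).symm)
    rw [Finset.card_insert_of_notMem (fun hh => by
        obtain ⟨l, -, hl⟩ := Finset.mem_image.mp hh; exact huP l hl),
      Finset.card_image_of_injective _ huinj, Fin.card_Icc] at h4
    omega
  let Z : Fin n → Submodule k V := fun r =>
    if hr : (r : ℕ) < N then span k {v (u ⟨r, by omega⟩), v (u ⟨r + N, by omega⟩)}
    else if hc' : 2 * N < c then span k {v (u ⟨2 * N, hc'⟩)} else ⊥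
  have hZ : ∀ r, v P ∉ Z r := fun r => by
    simp only [Z]
    split_ifs with hr hc'
    · exact hpair _ _ rfl (by omega)
    · exact hi.2 P hP _ (huS _) (huP _).symm
    · simpa using hi.1 P hP
  choose φ hφ hφZ using fun r => Submodule.exists_dual_map_eq_bot_of_notMem (hZ r) inferInstance
  refine ⟨φ, hφ, fun Q hQ hQP => ?_⟩
  have hker : ∀ r x, x ∈ Z r → φ r x = 0 := fun r x hx => by
    have : φ r x ∈ (Z r).map (φ r) := Submodule.mem_map_of_mem hx
    rw [hφZ r] at this
    exact (Submodule.mem_bot k).mp this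
  obtain ⟨i, rfl⟩ : ∃ i, u i = Q :=
    ⟨σ.symm (e.symm ⟨Q, Finset.mem_erase.mpr ⟨hQP, hQ⟩⟩), by simp [u]⟩
  by_cases h1 : (i : ℕ) < N
  · refine ⟨⟨i, by omega⟩, hker _ _ ?_⟩
    simp only [Z, h1, dite_true]
    exact subset_span (Or.inl rfl)
  by_cases h2 : (i : ℕ) < 2 * N
  · refine ⟨⟨(i : ℕ) - N, by omega⟩, hker _ _ ?_⟩
    simp only [Z]
    rw [dif_pos (by omega)]
    exact subset_span (Or.inr (congrArg (v ∘ u) (Fin.ext (by simp only; omega))))
  · refine ⟨⟨N, by omega⟩, hker _ _ ?_⟩
    simp only [Z, lt_irrefl, dite_false]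
    rw [dif_pos (by omega)]
    exact subset_span (congrArg (v ∘ u) (Fin.ext (by simp only; omega)))

end Groth.Agent.CurvFam16.Castel
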