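import Groth.Agent.CurvFam16.Castel.Forms
import Groth.Agent.LS17.Pv
import Groth.Agent.FFLib.Separation

/-! Points of a base point free series: coordinates, forms and their values. -/

set_option linter.unusedSectionVars false

namespace Groth.Agent.CurvFam16.Castel

open FunFld WithZero MvPolynomial
open Groth.Agent.FFLib Groth.Agent.LS17

variable {k K : Type*} [Field k] [IsAlgClosed k] [Field K] [Algebra k K] {ι : Type*} [Fintype ι]
  {D : Divisor k K} {f : ι → K} (h : IsBpfSeries D (Submodule.span k (Set.range f)))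

/-- A coordinate exact at the place. -/
noncomputable def j0 (P : Place k K) : ι := (exists_exact_entry h P).choose

theorem j0_ne (P : Place k K) : f (j0 h P) ≠ 0 := (exists_exact_entry h P).choose_spec.1

theorem ord_j0 (P : Place k K) : P.ord (f (j0 h P)) = -D P := (exists_exact_entry h P).choose_spec.2

theorem val_j0 (P : Place k K) : P.1 (f (j0 h P)) = exp (D P) := by
  rw [val_eq_exp P (j0_ne h P), ord_j0, neg_neg]

/-- The coordinate vector of a place. -/
noncomputable def evv (P : Place k K) : ι → k := fun i => pv P (f i / f (j0 h P))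

theorem evv_j0 (P : Place k K) : evv h P (j0 h P) = 1 := by
  simp only [evv, div_self (j0_ne h P)]
  exact pv_one P

theorem evv_ne_zero (P : Place k K) : evv h P ≠ 0 := fun e => by
  simpa [evv_j0] using congrFun e (j0 h P)

theorem val_div_le {P : Place k K} {n : ℕ} {x : K} (hx : x ∈ L (n • D)) : P.1 (x / f (j0 h P) ^ n) ≤ 1 := by
  rw [map_div₀, map_pow, val_j0, ← exp_nsmul, div_le_one₀ (zero_lt_iff.mpr exp_ne_zero)]
  simpa using hx P

theorem coord_le_one (P : Place k K) (i : ι) : P.1 (f i / f (j0 h P)) ≤ 1 := by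
  simpa using val_div_le h (n := 1) (P := P) (show f i ∈ L (1 • D) by
    rw [one_smul]; exact h.le (Submodule.subset_span ⟨i, rfl⟩))

variable (hK : IsFunctionField k K)
include hK

theorem aeval_coord (P : Place k K) (G : MvPolynomial ι k) :
    P.1 (aeval (fun i => f i / f (j0 h P)) G) ≤ 1 ∧
      pv P (aeval (fun i => f i / f (j0 h P)) G) = eval (evv h P) G := by
  induction G using MvPolynomial.induction_on with
  | C c => rw [aeval_C, eval_C]; exact ⟨P.2.1 c, pv_const P c⟩
  | add p q hp hq =>
    rw [map_add (aeval _), map_add (eval _)]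
    exact ⟨le_one_add hp.1 hq.1, by rw [pv_add hK hp.1 hq.1, hp.2, hq.2]⟩
  | mul_X p i hp =>
    rw [map_mul (aeval _), map_mul (eval _), aeval_X, eval_X]
    exact ⟨le_one_mul hp.1 (coord_le_one h P i), by rw [pv_mul hK hp.1 (coord_le_one h P i), hp.2, evv]⟩

include h in
theorem aeval_mem_L {G : MvPolynomial ι k} {n : ℕ} (hG : G.IsHomogeneous n) : aeval f G ∈ L (n • D) :=
  fun P => by
    have h1 := (aeval_coord h hK P G).1
    rw [aeval_div_of_isHomogeneous hG, map_div₀, map_pow, val_j0, ← exp_nsmul,
      div_le_one₀ (zero_lt_iff.mpr exp_ne_zero)] at h1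
    simpa using h1

theorem pv_aeval {G : MvPolynomial ι k} {n : ℕ} (hG : G.IsHomogeneous n) (P : Place k K) :
    pv P (aeval f G / f (j0 h P) ^ n) = eval (evv h P) G := by
  rw [← aeval_div_of_isHomogeneous hG]; exact (aeval_coord h hK P G).2

include h in
theorem eval_eq_zero_of_aeval {G : MvPolynomial ι k} {n : ℕ} (hG : G.IsHomogeneous n) (h0 : aeval f G = 0)
    (P : Place k K) : eval (evv h P) G = 0 := by
  rw [← pv_aeval h hK hG P, h0, zero_div, pv_zero]

variable [DecidableEq ι]

omit hK in
/-- The linear form of a functional on coordinate space. -/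
noncomputable def form (φ : Module.Dual k (ι → k)) : MvPolynomial ι k := ∑ i, C (φ (Pi.single i 1)) * X i

omit hK in
theorem eval_form (φ : Module.Dual k (ι → k)) (x : ι → k) : eval x (form φ) = φ x := by
  conv_rhs => rw [← Finset.univ_sum_single x, map_sum]
  simp only [form, map_sum, map_mul, eval_C, eval_X]
  refine Finset.sum_congr rfl fun i _ => ?_
  rw [show (Pi.single i (x i) : ι → k) = x i • Pi.single i (1 : k) by
    rw [← Pi.single_smul, smul_eq_mul, mul_one], map_smul, smul_eq_mul, mul_comm]

omit hK in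
theorem form_hom (φ : Module.Dual k (ι → k)) : (form φ).IsHomogeneous 1 :=
  IsHomogeneous.sum _ _ _ fun i _ => by simpa using (isHomogeneous_C ι (φ (Pi.single i 1))).mul (isHomogeneous_X k i)

omit hK in
/-- The member of the series of a functional. -/
noncomputable def memb (f : ι → K) (φ : Module.Dual k (ι → k)) : K := ∑ i, φ (Pi.single i 1) • f i

omit hK in
theorem aeval_form (φ : Module.Dual k (ι → k)) : aeval f (form φ) = memb f φ := by
  simp [form, memb, Algebra.smul_def]

omit hK in
theorem memb_mem (φ : Module.Dual k (ι → k)) : memb f φ ∈ Submodule.span k (Set.range f) :=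
  sum_mem fun i _ => Submodule.smul_mem _ _ (Submodule.subset_span ⟨i, rfl⟩)

omit hK in
theorem memb_ne_zero (hli : LinearIndependent k f) {φ : Module.Dual k (ι → k)} (hφ : φ ≠ 0) : memb f φ ≠ 0 :=
  fun e => hφ <| LinearMap.ext fun x => by
    have h0 := Fintype.linearIndependent_iff.1 hli _ e
    rw [← eval_form φ x]
    simp [form, h0]

omit hK in
theorem memb_sub (φ ψ : Module.Dual k (ι → k)) (c : k) : memb f (φ - c • ψ) = memb f φ - c • memb f ψ := by
  simp only [memb, LinearMap.sub_apply, LinearMap.smul_apply, smul_eq_mul, sub_smul, mul_smul,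
    Finset.sum_sub_distrib, Finset.smul_sum]

theorem pv_memb (φ : Module.Dual k (ι → k)) (P : Place k K) :
    P.1 (memb f φ / f (j0 h P)) ≤ 1 ∧ pv P (memb f φ / f (j0 h P)) = φ (evv h P) := by
  have h1 := aeval_coord h hK P (form φ)
  rw [aeval_div_of_isHomogeneous (form_hom φ), aeval_form, eval_form, pow_one] at h1
  exact h1

/-- A functional vanishes at a place iff its member is not exact there. -/
theorem eval_ne_zero_iff (hli : LinearIndependent k f) {φ : Module.Dual k (ι → k)} (hφ : φ ≠ 0) (P : Place k K) :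
    φ (evv h P) ≠ 0 ↔ P.ord (memb f φ) = -D P := by
  obtain ⟨h1, h2⟩ := pv_memb h hK φ P
  have hne : memb f φ / f (j0 h P) ≠ 0 := div_ne_zero (memb_ne_zero hli hφ) (j0_ne h P)
  have ho : P.ord (memb f φ / f (j0 h P)) = P.ord (memb f φ) + D P := by
    rw [div_eq_mul_inv, ord_mul P (memb_ne_zero hli hφ) (inv_ne_zero (j0_ne h P)), ord_inv, ord_j0]
    ring
  constructor
  · intro h0
    have := val_eq_one_of_pv hK h1 (h2.symm ▸ h0)
    rw [val_eq_exp P hne, exp_eq_one, ho] at this
    omega
  · intro ho' h0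
    have h3 := pv_spec hK h1
    rw [h2, h0, map_zero, sub_zero, val_lt_one_iff P hne, ho, ho'] at h3
    omega

include h in
/-- The zero divisor of a member. -/
theorem memb_div (hli : LinearIndependent k f) {φ : Module.Dual k (ι → k)} (hφ : φ ≠ 0) :
    0 ≤ D + FunFld.div k (memb f φ) ∧ (D + FunFld.div k (memb f φ)).deg = D.deg := by
  refine ⟨fun P => ?_, by rw [Divisor.deg_add, deg_div hK.1, add_zero]⟩
  rw [Finsupp.add_apply, div_apply hK.1, Finsupp.zero_apply]
  have := (mem_L_iff_ord (memb_ne_zero hli hφ)).mp (h.le (memb_mem φ)) P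
  omega

/-- A plane contains at most `deg D` points. -/
theorem card_le_deg (hli : LinearIndependent k f) {φ : Module.Dual k (ι → k)} (hφ : φ ≠ 0)
    (T : Finset (Place k K)) (hT : ∀ P ∈ T, φ (evv h P) = 0) : (T.card : ℤ) ≤ D.deg := by
  classical
  by_contra hlt
  obtain ⟨hE, hd⟩ := memb_div h hK hli hφ
  set E := D + FunFld.div k (memb f φ) with hEdef
  have hsum : ∑ P ∈ T, Finsupp.single P (1 : ℤ) ≤ E := fun Q => by
    rw [Finsupp.finsetSum_apply]
    by_cases hQ : Q ∈ T
    · rw [Finset.sum_eq_single_of_mem Q hQ (fun R _ hR => Finsupp.single_eq_of_ne (Ne.symm hR)),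
        Finsupp.single_eq_same, hEdef, Finsupp.add_apply, div_apply hK.1]
      have h1 := hE Q
      rw [Finsupp.zero_apply, hEdef, Finsupp.add_apply, div_apply hK.1] at h1
      have h2 : Q.ord (memb f φ) ≠ -D Q := fun e => (eval_ne_zero_iff h hK hli hφ Q).mpr e (hT Q hQ)
      omega
    · rw [Finset.sum_eq_zero fun R hR => Finsupp.single_eq_of_ne (by rintro rfl; exact hQ hR)]
      exact hE Q
  have h3 := Divisor.deg_mono hsum
  rw [show (∑ R ∈ T, Finsupp.single R (1 : ℤ) : Divisor k K).deg =
    ∑ R ∈ T, Divisor.deg (Finsupp.single R (1 : ℤ) : Divisor k K) from map_sum (degHom k K) _ _, hd] at h3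
  simp only [deg_pt hK, Finset.sum_const, nsmul_one] at h3
  omega

omit hK in
/-- Distinct places have non-proportional vectors. -/
theorem indep_evv (hinj : ∀ P Q : Place k K, (∃ c : k, evv h P = c • evv h Q) → P = Q) (S : Finset (Place k K)) :
    Indep k (evv h) S :=
  ⟨fun P _ => evv_ne_zero h P, fun P _ Q _ hne hmem => hne (hinj P Q (by
    obtain ⟨c, hc⟩ := Submodule.mem_span_singleton.mp hmem
    exact ⟨c, hc.symm⟩))⟩

end Groth.Agent.CurvFam16.Castel
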