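import Groth.Agent.CurvFam16.Castel.Comb
import Mathlib.RingTheory.MvPolynomial.Homogeneous
import Mathlib.Algebra.Order.Antidiag.FinsuppEquiv
import Mathlib.Algebra.Polynomial.Roots
import Mathlib.Algebra.Module.Submodule.Union
import Mathlib.Tactic.IntervalCases

/-! Forms vanishing at many points of a line vanish on the line. -/

set_option linter.style.haveILetI false

namespace Groth.Agent.CurvFam16.Castel

open Submodule MvPolynomial

variable {k ι α : Type*} [Field k] [Infinite k] {v : α → (ι → k)}

omit [Infinite k] in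
theorem eval_smul_of_isHomogeneous {F : MvPolynomial ι k} {m : ℕ} (hF : F.IsHomogeneous m) (c : k) (x : ι → k) :
    eval (c • x) F = c ^ m * eval x F := by
  simp only [eval_eq, Finset.mul_sum]
  refine Finset.sum_congr rfl fun d hd => ?_
  simp only [Pi.smul_apply, smul_eq_mul, mul_pow, Finset.prod_mul_distrib, Finset.prod_pow_eq_pow_sum]
  rw [show ∑ i ∈ d.support, d i = m from (hF.degree_eq_sum_deg_support hd).symm]
  ring

/-- A form of degree `m` with more than `m` zeros in a plane subspace vanishes on it. -/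
theorem eval_eq_zero_on_line {F : MvPolynomial ι k} {m : ℕ} (hF : F.IsHomogeneous m) (hm : 1 ≤ m)
    {W : Submodule k (ι → k)} [FiniteDimensional k W] (hW : Module.finrank k W ≤ 2) {T : Finset α}
    (hi : Indep k v T) (hT : ∀ Q ∈ T, v Q ∈ W) (h0 : ∀ Q ∈ T, eval (v Q) F = 0) (hc : m < T.card)
    {x : ι → k} (hx : x ∈ W) : eval x F = 0 := by
  classical
  rcases eq_or_ne x 0 with rfl | hx0
  · rw [show eval (0 : ι → k) F = constantCoeff F by simp, constantCoeff_eq]
    exact hF.coeff_eq_zero (d := 0) (by simp; omega)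
  obtain ⟨a, ha, b, hb, hab⟩ := Finset.one_lt_card.mp (show 1 < T.card by omega)
  have hline : ∀ y : ι → k, Module.finrank k (span k {y}) ≤ 1 := fun y => by
    simpa using finrank_span_le_card (R := k) ({y} : Set (ι → k))
  have hW2 : 2 ≤ Module.finrank k W := by
    have hlt : span k {v b} < W := lt_of_le_of_ne ((span_singleton_le_iff_mem _ _).mpr (hT b hb))
      fun e => hi.2 a ha b hb hab (e.symm ▸ hT a ha)
    have := Submodule.finrank_lt_finrank_of_lt hlt
    rw [finrank_span_singleton (hi.1 b hb)] at this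
    omega
  let p : Option T → Submodule k W := fun o => (span k {o.elim x fun Q => v Q}).comap W.subtype
  obtain ⟨⟨w, hwW⟩, hw⟩ := exists_forall_notMem_of_forall_ne_top p fun o htop => by
    have hle : W ≤ span k {o.elim x fun Q => v Q} := fun y hy => by
      have : (⟨y, hy⟩ : W) ∈ p o := htop ▸ trivial
      exact this
    have := Submodule.finrank_mono hle
    have := hline (o.elim x fun Q => v Q)
    omega
  have hwx : w ∉ span k {x} := hw none
  have hwT : ∀ Q ∈ T, w ∉ span k {v Q} := fun Q hQ => hw (some ⟨Q, hQ⟩)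
  have hxw : x ∉ span k {w} := fun h => by
    obtain ⟨c, hc⟩ := mem_span_singleton.mp h
    rcases eq_or_ne c 0 with rfl | hc0
    · exact hx0 (by rw [← hc, zero_smul])
    · exact hwx (mem_span_singleton.mpr ⟨c⁻¹, by rw [← hc, inv_smul_smul₀ hc0]⟩)
  have hspan : span k {x, w} = W := by
    refine eq_of_le_of_finrank_le (span_le.mpr ?_) ?_
    · rintro _ (rfl | rfl)
      · exact hx
      · exact hwW
    · haveI : FiniteDimensional k (span k ({x, w} : Set (ι → k))) := FiniteDimensional.span_of_finite k (Set.toFinite _)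
      have hlt : span k {w} < span k {x, w} := lt_of_le_of_ne (span_mono (by simp))
        fun e => hxw (e.symm ▸ subset_span (Or.inl rfl))
      have := Submodule.finrank_lt_finrank_of_lt hlt
      rw [finrank_span_singleton (fun e : w = 0 => hwx (e ▸ zero_mem _))] at this
      omega
  have hco : ∀ Q ∈ T, ∃ s c : k, c ≠ 0 ∧ v Q = c • (x + s • w) := fun Q hQ => by
    obtain ⟨c, e, he⟩ := mem_span_pair.mp (hspan ▸ hT Q hQ)
    rcases eq_or_ne c 0 with rfl | hc0
    · rw [zero_smul, zero_add] at he
      have he0 : e ≠ 0 := fun e0 => hi.1 Q hQ (by rw [← he, e0, zero_smul])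
      exact absurd (mem_span_singleton.mpr ⟨e⁻¹, by rw [← he, inv_smul_smul₀ he0]⟩) (hwT Q hQ)
    · exact ⟨e / c, c, hc0, by rw [smul_add, smul_smul, mul_div_cancel₀ _ hc0, he]⟩
  choose s c hc0 hs using hco
  let q : Polynomial k := MvPolynomial.aeval (fun i => Polynomial.C (x i) + Polynomial.C (w i) * Polynomial.X) F
  have hq : ∀ r : k, q.eval r = eval (x + r • w) F := fun r => by
    have := MvPolynomial.comp_aeval_apply (R := k) (B := k)
      (f := fun i => Polynomial.C (x i) + Polynomial.C (w i) * Polynomial.X) (Polynomial.aeval r) F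
    rw [Polynomial.coe_aeval_eq_eval] at this
    refine this.trans ?_
    rw [← MvPolynomial.aeval_eq_eval]
    congr 2
    funext i
    rw [Pi.add_apply, Pi.smul_apply, smul_eq_mul, Polynomial.eval_add, Polynomial.eval_mul,
      Polynomial.eval_C, Polynomial.eval_C, Polynomial.eval_X, mul_comm (w i) r]
  have hdeg : q.natDegree ≤ m := by
    simp only [q]
    rw [MvPolynomial.aeval_def, MvPolynomial.eval₂_eq]
    refine Polynomial.natDegree_sum_le_of_forall_le _ _ fun d hd => Polynomial.natDegree_mul_le.trans ?_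
    rw [Polynomial.algebraMap_apply, Polynomial.natDegree_C, zero_add]
    refine (Polynomial.natDegree_prod_le _ _).trans ?_
    rw [show m = ∑ i ∈ d.support, d i from hF.degree_eq_sum_deg_support hd]
    refine Finset.sum_le_sum fun i _ => Polynomial.natDegree_pow_le.trans ?_
    refine (Nat.mul_le_mul_left _ ((Polynomial.natDegree_add_le _ _).trans (max_le ?_ ?_))).trans_eq (mul_one _)
    · rw [Polynomial.natDegree_C]; exact zero_le_one
    · exact (Polynomial.natDegree_C_mul_le _ _).trans Polynomial.natDegree_X_le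
  let R : Finset k := T.attach.image fun Q => s Q.1 Q.2
  have hR : R.card = T.card := by
    rw [Finset.card_image_of_injective _ ?_, Finset.card_attach]
    rintro ⟨Q, hQ⟩ ⟨Q', hQ'⟩ he
    refine Subtype.ext (by_contra fun hne => hi.2 Q hQ Q' hQ' hne (mem_span_singleton.mpr ?_))
    simp only at he
    refine ⟨c Q hQ / c Q' hQ', ?_⟩
    rw [hs Q' hQ', hs Q hQ, smul_smul, div_mul_cancel₀ _ (hc0 Q' hQ'), he]
  have hroot : ∀ r ∈ R, q.eval r = 0 := fun r hr => by
    obtain ⟨⟨Q, hQ⟩, -, rfl⟩ := Finset.mem_image.mp hr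
    rw [hq]
    have h1 := h0 Q hQ
    rw [hs Q hQ, eval_smul_of_isHomogeneous hF, mul_eq_zero] at h1
    exact h1.resolve_left (pow_ne_zero _ (hc0 Q hQ))
  have h2 := Polynomial.eq_zero_of_natDegree_lt_card_of_eval_eq_zero' q R hroot (by omega)
  simpa [h2] using (hq 0).symm

omit [Infinite k] in
/-- The forms of degree `n`. -/
theorem finrank_homogeneous (k : Type*) [Field k] (d n : ℕ) :
    Module.Finite k (homogeneousSubmodule (Fin d) k n) ∧
      Module.finrank k (homogeneousSubmodule (Fin d) k n) = (d + n - 1).choose n := by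
  classical
  let S : Set (Fin d →₀ ℕ) := {e | e.degree = n}
  let e : {a // a ∈ (Finset.univ : Finset (Fin d)).finsuppAntidiag n} ≃ S :=
    Equiv.subtypeEquivRight fun a => by
      simp [S, Finset.mem_finsuppAntidiag, Finsupp.degree_eq_sum]
  haveI : Fintype S := Fintype.ofEquiv _ e
  let φ : homogeneousSubmodule (Fin d) k n ≃ₗ[k] (S →₀ k) :=
    (LinearEquiv.ofEq _ _ (homogeneousSubmodule_eq_finsupp_supported (σ := Fin d) (R := k) n)).trans
      (AddMonoidAlgebra.supportedEquivFinsupp S)
  refine ⟨Module.Finite.equiv φ.symm, ?_⟩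
  rw [φ.finrank_eq, Module.finrank_finsupp_self, ← Fintype.card_congr e, Fintype.card_coe,
    Finset.card_finsuppAntidiag_nat_eq_choose, Finset.card_univ, Fintype.card_fin]

theorem mul_add_one_lt_choose {d m : ℕ} (hd : d ≤ 2 * m) (hm : 1 ≤ m) : m * d + 1 < (4 + m - 1).choose m := by
  rw [show 4 + m - 1 = m + 3 by omega, ← Nat.choose_symm (by omega : m ≤ m + 3), Nat.add_sub_cancel_left]
  have h : (m + 3).choose 3 * 6 = (m + 3) * (m + 2) * (m + 1) := by
    rw [mul_comm, show 6 = (3).factorial from rfl, ← Nat.descFactorial_eq_factorial_mul_choose]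
    simp [Nat.descFactorial]
    ring
  have h2 : m * d ≤ m * (2 * m) := Nat.mul_le_mul_left m hd
  have h3 : 12 * m * m < m * m * m + 6 * m * m + 11 * m := by
    rcases Nat.lt_or_ge m 7 with hlt | hge
    · interval_cases m <;> norm_num
    · nlinarith [Nat.mul_le_mul_right (m * m) hge]
  nlinarith

end Groth.Agent.CurvFam16.Castel
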