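import Groth.Agent.CurvFam16.Castel.Eval
import Groth.Agent.FFLib.Res.Weil
import Groth.Agent.FFLib.Diff.Nonsing
import Groth.Agent.FFLib.Ram.Unramified
import Groth.Agent.FFLib.Local.Hasse
import Mathlib.Algebra.MvPolynomial.Funext

/-! A pencil with separating ratio, axis off a hypersurface and off the curve; its reduced fibres. -/

set_option linter.unusedSectionVars false
set_option linter.style.haveILetI false

namespace Groth.Agent.CurvFam16.Castel

open FunFld WithZero IntermediateField
open Groth.Agent.FFLib Groth.Agent.LS17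

variable {k K : Type*} [Field k] [IsAlgClosed k] [Field K] [Algebra k K] {ι : Type*} [Fintype ι] [DecidableEq ι]
  {D : Divisor k K} {f : ι → K}

/-- The differential of a ratio, without its denominator. -/
noncomputable def omg (f : ι → K) (φ ψ : Module.Dual k (ι → k)) : Ω[K⁄k] :=
  memb f ψ • KaehlerDifferential.D k K (memb f φ) - memb f φ • KaehlerDifferential.D k K (memb f ψ)

theorem memb_add (φ φ' : Module.Dual k (ι → k)) : memb f (φ + φ') = memb f φ + memb f φ' := by
  simp only [memb, LinearMap.add_apply, add_smul, Finset.sum_add_distrib]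

theorem memb_smul (c : k) (φ : Module.Dual k (ι → k)) : memb f (c • φ) = c • memb f φ := by
  simp only [memb, LinearMap.smul_apply, smul_eq_mul, mul_smul, Finset.smul_sum]

theorem omg_add (φ φ' ψ : Module.Dual k (ι → k)) : omg f (φ + φ') ψ = omg f φ ψ + omg f φ' ψ := by
  simp only [omg, memb_add, map_add, smul_add, add_smul]; abel

theorem omg_smul (c : k) (φ ψ : Module.Dual k (ι → k)) : omg f (c • φ) ψ = c • omg f φ ψ := by
  simp only [omg, memb_smul, Derivation.map_smul, smul_comm (memb f ψ) c, smul_assoc, smul_sub]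

theorem D_ratio {φ ψ : Module.Dual k (ι → k)} (_hψ : memb f ψ ≠ 0) :
    KaehlerDifferential.D k K (memb f φ / memb f ψ) = (memb f ψ)⁻¹ ^ 2 • omg f φ ψ := by
  rw [omg, Derivation.leibniz_div]

theorem memb_proj (i : ι) : memb f (LinearMap.proj (R := k) i) = f i := by
  simp [memb, Pi.single_apply, Finset.sum_ite_eq]

variable (hK : IsFunctionField k K)
include hK

/-- The differential does not vanish on all generators. -/
theorem exists_D_ne_zero {S : Set K} (hS : IntermediateField.adjoin k S = ⊤) :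
    ∃ z ∈ S, KaehlerDifferential.D k K z ≠ 0 := by
  by_contra! h
  obtain ⟨x, hx, hsep⟩ := exists_separating_element hK (isGeometric_of_perfect hK)
  refine D_ne_zero hK hx hsep ?_
  suffices ∀ y ∈ IntermediateField.adjoin k S, KaehlerDifferential.D k K y = 0 from
    this x (hS ▸ IntermediateField.mem_top)
  intro y hy
  clear hsep hx x
  induction hy using IntermediateField.adjoin_induction with
  | mem a ha => exact h a ha
  | algebraMap c => exact Derivation.map_algebraMap _ c
  | add a b _ _ ha hb => rw [map_add, ha, hb, add_zero]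
  | inv a _ ha => rw [Derivation.leibniz_inv, ha, smul_zero]
  | mul a b _ _ ha hb => rw [Derivation.leibniz, ha, hb, smul_zero, smul_zero, add_zero]

/-- At most one point through which all ratios are inseparable. -/
theorem exists_pair_of_two (hι : 3 ≤ Fintype.card ι) (hli : LinearIndependent k f) {i₀ : ι}
    (hgen : IntermediateField.adjoin k (Set.range fun i => f i / f i₀) = ⊤)
    {c c' : ι → k} (hc : c ≠ 0) (hcc : c' ∉ Submodule.span k {c}) :
    ∃ φ ψ : Module.Dual k (ι → k), omg f φ ψ ≠ 0 ∧ ((φ c = 0 ∧ ψ c = 0) ∨ (φ c' = 0 ∧ ψ c' = 0)) := by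
  classical
  by_contra! hall
  have hc'c : c ∉ Submodule.span k {c'} := fun hm => by
    obtain ⟨a, ha⟩ := Submodule.mem_span_singleton.mp hm
    rcases eq_or_ne a 0 with rfl | ha0
    · exact hc (by rw [← ha, zero_smul])
    · exact hcc (Submodule.mem_span_singleton.mpr ⟨a⁻¹, by rw [← ha, inv_smul_smul₀ ha0]⟩)
  obtain ⟨α, hα, hαm⟩ := Submodule.exists_dual_map_eq_bot_of_notMem hc'c inferInstance
  have hαc' : α c' = 0 := by
    have : α c' ∈ (Submodule.span k {c'}).map α := Submodule.mem_map_of_mem (Submodule.mem_span_singleton_self c')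
    rw [hαm] at this
    exact (Submodule.mem_bot k).mp this
  obtain ⟨e, -, he⟩ := SetLike.exists_of_lt (p := Submodule.span k {c, c'}) (q := ⊤) <| lt_top_iff_ne_top.mpr fun htop => by
    have h2 := finrank_span_finset_le_card (R := k) ({c, c'} : Finset (ι → k))
    rw [Set.finrank, Finset.coe_insert, Finset.coe_singleton, htop, finrank_top, Module.finrank_pi] at h2
    have := Finset.card_le_two (a := c) (b := c')
    omega
  obtain ⟨u, hu, hum⟩ := Submodule.exists_dual_map_eq_bot_of_notMem he inferInstance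
  have hu0 : ∀ x ∈ Submodule.span k {c, c'}, u x = 0 := fun x hx => by
    have : u x ∈ (Submodule.span k {c, c'}).map u := Submodule.mem_map_of_mem hx
    rw [hum] at this
    exact (Submodule.mem_bot k).mp this
  have huc : u c = 0 := hu0 c (Submodule.subset_span (Or.inl rfl))
  have huc' : u c' = 0 := hu0 c' (Submodule.subset_span (Or.inr rfl))
  have hune : u ≠ 0 := fun e' => hu (by rw [e']; rfl)
  have hm : memb f u ≠ 0 := memb_ne_zero hli hune
  have hω : ∀ φ, omg f φ u = 0 := fun φ => by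
    set a := φ c / α c
    have h1 : omg f (φ - a • α) u = 0 := by
      by_contra hne
      exact (hall _ u hne).1 (by simp [a, div_mul_cancel₀ _ hα]) huc
    have h2 : omg f α u = 0 := by
      by_contra hne
      exact (hall _ u hne).2 hαc' huc'
    rw [show φ = (φ - a • α) + a • α by abel, omg_add, omg_smul, h1, h2, smul_zero, add_zero]
  obtain ⟨z, ⟨i, rfl⟩, hz⟩ := exists_D_ne_zero hK hgen
  refine hz ?_
  have hD0 : ∀ j, KaehlerDifferential.D k K (f j / memb f u) = 0 := fun j => by
    rw [← memb_proj (k := k) (f := f) j, D_ratio hm, hω, smul_zero]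
  show KaehlerDifferential.D k K (f i / f i₀) = 0
  rw [← div_div_div_cancel_right₀ hm, Derivation.leibniz_div, hD0, hD0]
  simp

variable (h : IsBpfSeries D (Submodule.span k (Set.range f)))

/-- A pencil: separating ratio, axis through a point off `F`, missing the curve. -/
theorem exists_pencil (hι : 3 ≤ Fintype.card ι) (hli : LinearIndependent k f) {i₀ : ι}
    (hgen : IntermediateField.adjoin k (Set.range fun i => f i / f i₀) = ⊤)
    {F : MvPolynomial ι k} {m : ℕ} (hF : F.IsHomogeneous m) (hF0 : F ≠ 0) (hm : 1 ≤ m)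
    (hFX : ∀ P, MvPolynomial.eval (evv h P) F = 0) :
    ∃ (c : ι → k) (φ ψ : Module.Dual k (ι → k)), MvPolynomial.eval c F ≠ 0 ∧ φ c = 0 ∧ ψ c = 0 ∧ ψ ≠ 0 ∧
      KaehlerDifferential.D k K (memb f φ / memb f ψ) ≠ 0 ∧ ∀ P, φ (evv h P) ≠ 0 ∨ ψ (evv h P) ≠ 0 := by
  classical
  have hev : ∀ G : MvPolynomial ι k, G ≠ 0 → ∃ x, MvPolynomial.eval x G ≠ 0 := fun G hG => by
    by_contra! h0
    exact hG (MvPolynomial.funext fun x => by rw [h0 x, map_zero])
  obtain ⟨a, ha⟩ := hev F hF0
  have ha0 : a ≠ 0 := fun e => ha (by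
    rw [e, ← zero_smul k (0 : ι → k), eval_smul_of_isHomogeneous hF, zero_pow (by omega), zero_mul])
  have haspan : Submodule.span k {a} < ⊤ := lt_top_iff_ne_top.mpr fun htop => by
    have h2 := finrank_span_singleton (K := k) ha0
    rw [htop, finrank_top, Module.finrank_pi] at h2
    omega
  obtain ⟨e, -, he⟩ := SetLike.exists_of_lt haspan
  obtain ⟨β, hβ, hβm⟩ := Submodule.exists_dual_map_eq_bot_of_notMem he inferInstance
  have hβa : β a = 0 := by
    have : β a ∈ (Submodule.span k {a}).map β := Submodule.mem_map_of_mem (Submodule.mem_span_singleton_self a)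
    rw [hβm] at this
    exact (Submodule.mem_bot k).mp this
  have hform : form β ≠ 0 := fun e' => hβ (by rw [← eval_form β e, e', map_zero])
  obtain ⟨a', ha'⟩ := hev (F * form β) (mul_ne_zero hF0 hform)
  rw [map_mul, mul_ne_zero_iff, eval_form] at ha'
  have ha'span : a' ∉ Submodule.span k {a} := fun hm => by
    obtain ⟨r, hr⟩ := Submodule.mem_span_singleton.mp hm
    exact ha'.2 (by rw [← hr, map_smul, hβa, smul_zero])
  obtain ⟨φ₀, ψ, hω, hc⟩ := exists_pair_of_two hK hι hli hgen ha0 ha'span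
  obtain ⟨c, hcF, hφ₀, hψc⟩ : ∃ c, MvPolynomial.eval c F ≠ 0 ∧ φ₀ c = 0 ∧ ψ c = 0 := by
    rcases hc with ⟨h1, h2⟩ | ⟨h1, h2⟩
    · exact ⟨a, ha, h1, h2⟩
    · exact ⟨a', ha'.1, h1, h2⟩
  have hψ : ψ ≠ 0 := fun e' => hω (by simp [e', omg, memb])
  have hmψ : memb f ψ ≠ 0 := memb_ne_zero hli hψ
  let H : Submodule k (Module.Dual k (ι → k)) := LinearMap.ker (LinearMap.applyₗ c)
  let ωl : Module.Dual k (ι → k) →ₗ[k] Ω[K⁄k] :=
    { toFun := fun φ => omg f φ ψ, map_add' := fun x y => omg_add x y ψ, map_smul' := fun r x => omg_smul r x ψ }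
  set Z := (D + FunFld.div k (memb f ψ)).support
  let p : Option Z → Submodule k H := fun o => o.elim ((LinearMap.ker ωl).comap H.subtype)
    fun P => (LinearMap.ker (LinearMap.applyₗ (evv h (P : Place k K)))).comap H.subtype
  obtain ⟨⟨φ, hφc⟩, hφ⟩ := Submodule.exists_forall_notMem_of_forall_ne_top (K := k) (M := ↥H) p fun o htop => by
    rcases o with _ | P
    · have : (⟨φ₀, hφ₀⟩ : H) ∈ p none := htop ▸ trivial
      exact hω this
    · have hne : evv h (P : Place k K) ∉ Submodule.span k {c} := fun hm' => by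
        obtain ⟨r, hr⟩ := Submodule.mem_span_singleton.mp hm'
        have hr0 : r ≠ 0 := fun e' => evv_ne_zero h (P : Place k K) (by rw [← hr, e', zero_smul])
        have h3 := hFX P
        rw [← hr, eval_smul_of_isHomogeneous hF, mul_eq_zero] at h3
        exact h3.elim (pow_ne_zero _ hr0) hcF
      obtain ⟨γ, hγ, hγm⟩ := Submodule.exists_dual_map_eq_bot_of_notMem hne inferInstance
      have hγc : γ c = 0 := by
        have : γ c ∈ (Submodule.span k {c}).map γ := Submodule.mem_map_of_mem (Submodule.mem_span_singleton_self c)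
        rw [hγm] at this
        exact (Submodule.mem_bot k).mp this
      have : (⟨γ, hγc⟩ : H) ∈ p (some P) := htop ▸ trivial
      exact hγ this
  refine ⟨c, φ, ψ, hcF, hφc, hψc, hψ, ?_, fun P => or_iff_not_imp_right.mpr fun hP => ?_⟩
  · rw [D_ratio hmψ]
    exact smul_ne_zero (pow_ne_zero _ (inv_ne_zero hmψ)) (hφ none)
  · refine hφ (some ⟨P, ?_⟩)
    rw [Finsupp.mem_support_iff, Finsupp.add_apply, div_apply hK.1]
    intro hz
    exact hP ((eval_ne_zero_iff h hK hli hψ P).mpr (by omega))

omit h in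
theorem ord_aeval {Q : Place k K} {t : K} {c : k} (hc : Q.1 (t - algebraMap k K c) < 1)
    (ht : t - algebraMap k K c ≠ 0) {p : Polynomial k} (hp : p ≠ 0) :
    ∃ n : ℕ, Polynomial.aeval t p ≠ 0 ∧ Q.ord (Polynomial.aeval t p) = n * Q.ord (t - algebraMap k K c) := by
  obtain ⟨q, hq, hqc⟩ := Polynomial.exists_eq_pow_rootMultiplicity_mul_and_not_dvd p hp c
  have ht1 : Q.1 t ≤ 1 := le_one_of_lt hc
  have hval : ∀ q : Polynomial k, Q.1 (Polynomial.aeval t q) ≤ 1 ∧ pv Q (Polynomial.aeval t q) = q.eval c := by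
    intro q
    induction q using Polynomial.induction_on with
    | C a => rw [Polynomial.aeval_C, Polynomial.eval_C]; exact ⟨Q.2.1 a, pv_const Q a⟩
    | add a b ha hb =>
      rw [map_add (Polynomial.aeval t), Polynomial.eval_add]
      exact ⟨le_one_add ha.1 hb.1, by rw [pv_add hK ha.1 hb.1, ha.2, hb.2]⟩
    | monomial n a ih =>
      rw [pow_succ, ← mul_assoc, map_mul (Polynomial.aeval t), Polynomial.aeval_X, Polynomial.eval_mul,
        Polynomial.eval_X]
      exact ⟨le_one_mul ih.1 ht1, by rw [pv_mul hK ih.1 ht1, ih.2, pv_eq hc]⟩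
  have hq0 : pv Q (Polynomial.aeval t q) ≠ 0 := fun e => hqc (by
    rw [Polynomial.dvd_iff_isRoot, Polynomial.IsRoot, ← (hval q).2, e])
  have hne : Polynomial.aeval t q ≠ 0 := fun e => hq0 (by rw [e, pv_zero])
  have hord : Q.ord (Polynomial.aeval t q) = 0 := by
    have := val_eq_one_of_pv hK (hval q).1 hq0
    rw [val_eq_exp Q hne, exp_eq_one] at this
    omega
  refine ⟨p.rootMultiplicity c, ?_⟩
  rw [hq, map_mul, map_pow, map_sub, Polynomial.aeval_X, Polynomial.aeval_C]
  refine ⟨mul_ne_zero (pow_ne_zero _ ht) hne, ?_⟩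
  rw [ord_mul Q (pow_ne_zero _ ht) hne, ord_pow, hord, add_zero, ← hq]

omit h in
/-- Almost all fibres of a separating element are reduced. -/
theorem exists_reduced_fibres {t : K} (ht : KaehlerDifferential.D k K t ≠ 0) :
    ∃ B : Set k, B.Finite ∧ ∀ c ∉ B, ∀ Q : Place k K, Q.1 (t - algebraMap k K c) < 1 →
      Q.ord (t - algebraMap k K c) = 1 := by
  classical
  obtain ⟨htr, hsep⟩ := separating_of_D_ne hK (isGeometric_of_perfect hK) ht
  haveI := IsFF.finite_adjoin hK.1 htr
  haveI := hsep
  let R : Set (Place k K) := {Q | ¬ Function.Surjective (Q.1.comap (algebraMap k⟮t⟯ K))}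
  have hR : R.Finite := finite_ramified (K := k⟮t⟯) (isFF_adjoin htr)
  refine ⟨(fun Q => pv Q t) '' R, hR.image _, fun c hc Q hQ => ?_⟩
  have htc : t - algebraMap k K c ≠ 0 := fun e => htr (by rw [sub_eq_zero.mp e]; exact isAlgebraic_algebraMap c)
  have hs : Function.Surjective (Q.1.comap (algebraMap k⟮t⟯ K)) := by
    by_contra hns
    exact hc ⟨Q, hns, pv_eq hQ⟩
  obtain ⟨z, hz⟩ := hs (exp (-1))
  rw [Valuation.comap_apply] at hz
  obtain ⟨r, s, hrs⟩ := IntermediateField.mem_adjoin_simple_iff k (α := t) (z : K) |>.mp z.2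
  change Q.1 (z : K) = _ at hz
  rw [hrs] at hz
  have hr : r ≠ 0 := fun e => by
    rw [e, map_zero, zero_div, map_zero] at hz; exact exp_ne_zero hz.symm
  have hs0 : s ≠ 0 := fun e => by
    rw [e, map_zero, div_zero, map_zero] at hz; exact exp_ne_zero hz.symm
  obtain ⟨a, hra, ha⟩ := ord_aeval hK hQ htc hr
  obtain ⟨b, hsb, hb⟩ := ord_aeval hK hQ htc hs0
  have h1 : Q.ord (Polynomial.aeval t r / Polynomial.aeval t s) = 1 := ord_of_val_eq Q hz
  rw [div_eq_mul_inv, ord_mul Q hra (inv_ne_zero hsb), ord_inv, ha, hb] at h1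
  have hpos := (val_lt_one_iff Q htc).mp hQ
  exact Int.eq_one_of_dvd_one hpos.le ⟨(a : ℤ) - b, by linarith⟩

/-- Almost all members of a separable base point free pencil consist of `deg D` distinct points. -/
theorem exists_reduced_members (hli : LinearIndependent k f) {φ ψ : Module.Dual k (ι → k)} (hψ : ψ ≠ 0)
    (hD : KaehlerDifferential.D k K (memb f φ / memb f ψ) ≠ 0)
    (hbf : ∀ P, φ (evv h P) ≠ 0 ∨ ψ (evv h P) ≠ 0) :
    ∃ B : Set k, B.Finite ∧ ∀ c ∉ B, φ - c • ψ ≠ 0 ∧ ∃ Γ : Finset (Place k K),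
      (Γ.card : ℤ) = D.deg ∧ ∀ P ∈ Γ, (φ - c • ψ) (evv h P) = 0 := by
  classical
  set t := memb f φ / memb f ψ with htdef
  have hmψ := memb_ne_zero hli hψ
  obtain ⟨B, hB, hBgood⟩ := exists_reduced_fibres hK hD
  refine ⟨B, hB, fun c hc => ?_⟩
  have hne : φ - c • ψ ≠ 0 := fun e => hD (by
    rw [sub_eq_zero] at e
    rw [htdef, e, memb_smul, Algebra.smul_def, mul_div_cancel_right₀ _ hmψ]
    exact Derivation.map_algebraMap _ c)
  obtain ⟨hE, hdeg⟩ := memb_div h hK hli hne
  set E := D + FunFld.div k (memb f (φ - c • ψ)) with hEdef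
  have hEP : ∀ P, E P = D P + P.ord (memb f (φ - c • ψ)) := fun P => by
    rw [hEdef, Finsupp.add_apply, div_apply hK.1]
  have hiff : ∀ P, E P ≠ 0 ↔ (φ - c • ψ) (evv h P) = 0 := fun P => by
    have := eval_ne_zero_iff h hK hli hne P
    rw [hEP]
    constructor
    · intro h1; by_contra h2; have := this.mp h2; omega
    · intro h1 h2; exact this.mpr (by omega) h1
  refine ⟨hne, E.support, ?_, fun P hP => (hiff P).mp (Finsupp.mem_support_iff.mp hP)⟩
  have hone : ∀ P ∈ E.support, E P = 1 := fun P hP => by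
    have h0 := (hiff P).mp (Finsupp.mem_support_iff.mp hP)
    have hψP : ψ (evv h P) ≠ 0 := fun e => (hbf P).elim (fun h1 => h1 (by simpa [e] using h0)) (fun h1 => h1 e)
    have ho := (eval_ne_zero_iff h hK hli hψ P).mp hψP
    have hm : memb f (φ - c • ψ) = (t - algebraMap k K c) * memb f ψ := by
      rw [memb_sub, Algebra.smul_def, sub_mul, htdef, div_mul_cancel₀ _ hmψ]
    have htc : t - algebraMap k K c ≠ 0 := fun e => memb_ne_zero hli hne (by rw [hm, e, zero_mul])
    have hord : E P = P.ord (t - algebraMap k K c) := by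
      rw [hEP, hm, ord_mul P htc hmψ, ho]; ring
    have hnn := hE P
    rw [Finsupp.zero_apply] at hnn
    have hnz := Finsupp.mem_support_iff.mp hP
    rw [hord, hBgood c hc P ((val_lt_one_iff P htc).mpr (by omega))]
  rw [← hdeg, show E.deg = ∑ P ∈ E.support, E P * (P.deg : ℤ) from rfl]
  rw [Finset.sum_congr rfl fun P hP => by rw [hone P hP, deg_eq_one hK.1 P]]
  simp

end Groth.Agent.CurvFam16.Castel
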