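import Groth.Agent.LS17.BirSeries
import Groth.Agent.CurvFam16.Castel.Eval

/-! A closed immersion separates the places. -/

noncomputable section

set_option linter.style.haveILetI false
set_option linter.unusedSectionVars false
set_option backward.isDefEq.respectTransparency false
set_option backward.isDefEq.respectTransparency.types false

universe u

open CategoryTheory CategoryTheory.Limits AlgebraicGeometry TopologicalSpace Opposite
open Groth.Agent.CurveCohLib.Polar (InR gη eta_mem)

namespace Groth.Agent.CurvFam16.Castel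

open Groth.Agent.LS17 Groth.Agent.FFLib

attribute [local instance] CurveFF.ffAlg

variable (k : Type u) [Field k] [IsAlgClosed k] {X : Scheme.{u}} [X.Over (Spec (CommRingCat.of k))]
  [IsIntegral X] [IsProper (X ↘ Spec (CommRingCat.of k))] [Smooth (X ↘ Spec (CommRingCat.of k))]
  {n : ℕ} (r : X ⟶ CohB1.ProjSpace n k)
  (hr : r ≫ CohB1.ProjSpace.toSpec n k = X ↘ Spec (CommRingCat.of k))

include hr in
/-- Functions from a chart are polynomials in the coordinate ratios. -/
theorem germ_appLE_mem_algebra {j : Fin (n + 1)} {W : X.Opens} (hW : W ≤ r ⁻¹ᵁ chartD k j)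
    (hη : genericPoint X ∈ W) (s : Set X.functionField)
    (hs : ∀ i, (X.presheaf.germ W _ hη (ProjUPX.ratioOf r (ProjPt.X_mem i) (ProjPt.X_mem j) hW) :
      X.functionField) ∈ s)
    (t : Γ(CohB1.ProjSpace n k, chartD k j)) :
    (X.presheaf.germ W _ hη (r.appLE (chartD k j) W hW t) : X.functionField) ∈ Algebra.adjoin k s := by
  haveI : IsIso (Proj.awayToSection (CohB1.polyGrading n k) (MvPolynomial.X j)) :=
    inferInstanceAs (IsIso (Proj.basicOpenIsoAway (CohB1.polyGrading n k) (MvPolynomial.X j) (ProjPt.X_mem j) Nat.one_pos).hom)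
  obtain ⟨a, rfl⟩ := (ConcreteCategory.bijective_of_isIso
    (Proj.awayToSection (CohB1.polyGrading n k) (MvPolynomial.X j))).2 t
  obtain ⟨m, b, hb, rfl⟩ := HomogeneousLocalization.Away.mk_surjective (CohB1.polyGrading n k) (ProjPt.X_mem j) a
  let ψ : HomogeneousLocalization.Away (CohB1.polyGrading n k) (MvPolynomial.X j) →+* X.functionField :=
    ((Proj.awayToSection (CohB1.polyGrading n k) (MvPolynomial.X j)) ≫ r.appLE (chartD k j) W hW ≫
      X.presheaf.germ W _ hη).hom
  show ψ _ ∈ _
  rw [ProjPt.mk_eq_eval, MvPolynomial.map_eval₂Hom]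
  have hc : ∀ c, (ψ.comp (ProjPt.cst j)) c = algebraMap k X.functionField c := fun c => by
    refine Eq.trans ?_ (germ_const k hη c)
    show X.presheaf.germ W _ hη (r.appLE (chartD k j) W hW
      ((Proj.awayToSection (CohB1.polyGrading n k) (MvPolynomial.X j)).hom (ProjPt.cst j c))) = _
    rw [← toSpec_res_cst k j c, ← CommRingCat.comp_apply ((CohB1.ProjSpace.toSpec n k).appLE _ _ _),
      Scheme.Hom.appLE_comp_appLE]
    simp only [hr]
  induction b using MvPolynomial.induction_on' with
  | monomial d c =>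
    rw [MvPolynomial.eval₂Hom_monomial, hc]
    exact mul_mem (Subalgebra.algebraMap_mem _ c)
      (prod_mem fun i _ => pow_mem (Algebra.subset_adjoin (hs i)) _)
  | add p q hp hq =>
    rw [map_add]
    have : ∀ x : MvPolynomial (Fin (n + 1)) k, MvPolynomial.eval₂Hom (ψ.comp (ProjPt.cst j))
        (fun i => ψ (ProjPt.crd j i)) x ∈ Algebra.adjoin k s := fun x => by
      induction x using MvPolynomial.induction_on with
      | C c => rw [MvPolynomial.eval₂Hom_C, hc]; exact Subalgebra.algebraMap_mem _ c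
      | add p q hp hq => rw [map_add]; exact add_mem hp hq
      | mul_X p i hp => rw [map_mul, MvPolynomial.eval₂Hom_X']; exact mul_mem hp (Algebra.subset_adjoin (hs i))
    exact add_mem (this p) (this q)

variable (hdim : topologicalKrullDim X = 1) {D : FunFld.Divisor k X.functionField} {f : Fin (n + 1) → X.functionField}
  (hb : IsBpfSeries D (Submodule.span k (Set.range f)))
  (hrat : ∀ (i j : Fin (n + 1)) (W : X.Opens) (h : W ≤ r ⁻¹ᵁ chartD k j) (hη : genericPoint X ∈ W),
    (X.presheaf.germ W _ hη (ProjUPX.ratioOf r (ProjPt.X_mem i) (ProjPt.X_mem j) h) : X.functionField) = f i / f j)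

include hb hrat in
/-- An exact coordinate puts the point into the chart. -/
theorem mem_chart_of_ord (z : CurveFF.Pt X) {j : Fin (n + 1)} (hj : f j ≠ 0)
    (ho : (CurveFF.pl k X hdim z).ord (f j) = -D (CurveFF.pl k X hdim z)) : z.1 ∈ r ⁻¹ᵁ chartD k j := by
  obtain ⟨l, hl⟩ := Opens.mem_iSup.1 ((AmpleEmbed.iSup_basicOpen_X n k).ge (trivial : r z.1 ∈ (⊤ : Opens _)))
  set W : X.Opens := r ⁻¹ᵁ chartD k l
  have hzW : z.1 ∈ W := hl
  have hη : genericPoint X ∈ W := eta_mem hzW
  set P := CurveFF.pl k X hdim z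
  set u : Γ(X, W) := ProjUPX.ratioOf r (ProjPt.X_mem j) (ProjPt.X_mem l) (le_refl W) with hudef
  have hgerm : (algebraMap (X.presheaf.stalk z.1) X.functionField (X.presheaf.germ W z.1 hzW u) : X.functionField) =
      f j / f l := by
    rw [algebraMap_germ hzW u]
    exact hrat j l W le_rfl hη
  have hunit : IsUnit (X.presheaf.germ W z.1 hzW u) := by
    by_contra hnu
    have hlt := (CurveFF.valAt_lt_one_iff k X hdim z _).2 ((IsLocalRing.mem_maximalIdeal _).2 hnu)
    rw [hgerm] at hlt
    change P.1 (f j / f l) < 1 at hlt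
    rcases eq_or_ne (f l) 0 with hl0 | hl0
    · have hg := hrat l l W le_rfl hη
      rw [hl0, zero_div] at hg
      obtain ⟨j', hj', -⟩ := exists_exact_entry hb P
      have hone : ProjUPX.ratioOf r (ProjPt.X_mem l) (ProjPt.X_mem l) (le_refl W) = 1 := by
        rw [ProjUPX.ratioOf, show HomogeneousLocalization.Away.mk (CohB1.polyGrading n k) (ProjPt.X_mem l) 1
          (MvPolynomial.X l) (by rw [one_smul]; exact ProjPt.X_mem l) = 1 from
          HomogeneousLocalization.val_injective _ (by simp [HomogeneousLocalization.Away.val_mk])]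
        simp
      rw [hone, map_one] at hg
      exact one_ne_zero hg
    · rw [map_div₀, val_eq_exp P hj, ho, neg_neg, div_lt_one₀ (zero_lt_iff.mpr (val_ne_zero P hl0))] at hlt
      exact absurd (hb.le (Submodule.subset_span ⟨l, rfl⟩) P) (not_le.mpr hlt)
  have hzB : z.1 ∈ X.basicOpen u := (X.mem_basicOpen u z.1 hzW).mpr hunit
  have h2 := ProjUPX.le_preimage_of_isUnit r (ProjPt.X_mem j) (ProjPt.X_mem l)
    (h := ((X.basicOpen_le u).trans le_rfl : X.basicOpen u ≤ r ⁻¹ᵁ chartD k l)) (by
      have e : ProjUPX.ratioOf r (ProjPt.X_mem j) (ProjPt.X_mem l)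
          ((X.basicOpen_le u).trans le_rfl : X.basicOpen u ≤ r ⁻¹ᵁ chartD k l) =
          X.presheaf.map (homOfLE (X.basicOpen_le u)).op u := by
        simp only [hudef, ProjUPX.ratioOf]
        exact (DFunLike.congr_fun (congrArg CommRingCat.Hom.hom
          (Scheme.Hom.appLE_map r (le_refl W) (homOfLE (X.basicOpen_le u)).op)) _).symm
      rw [e]
      exact RingedSpace.isUnit_res_basicOpen X.toRingedSpace u)
  exact h2 hzB

include hr hb hrat hdim in
/-- A closed immersion gives distinct coordinate vectors. -/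
theorem eq_of_evv_smul [IsClosedImmersion r] (P Q : FunFld.Place k X.functionField)
    (hPQ : ∃ c : k, evv hb P = c • evv hb Q) : P = Q := by
  classical
  have hK := CurveFF.isFunctionField k X hdim
  obtain ⟨c, hc⟩ := hPQ
  obtain ⟨a, rfl⟩ := (CurveFF.pl k X hdim).surjective P
  obtain ⟨b, rfl⟩ := (CurveFF.pl k X hdim).surjective Q
  set P := CurveFF.pl k X hdim a
  set Q := CurveFF.pl k X hdim b
  set j := j0 hb P
  set l := j0 hb Q
  have hcj := congrFun hc j
  rw [Pi.smul_apply, smul_eq_mul, evv_j0] at hcj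
  have hc0 : c ≠ 0 := fun e => by rw [e, zero_mul] at hcj; exact one_ne_zero hcj
  have hQj : pv Q (f j / f l) ≠ 0 := fun e => by
    rw [show evv hb Q j = pv Q (f j / f l) from rfl, e, mul_zero] at hcj; exact one_ne_zero hcj
  have hjne := j0_ne hb P
  have hu1 := val_eq_one_of_pv hK (coord_le_one hb Q j) hQj
  have hjQ : Q.ord (f j) = -D Q := by
    rw [val_eq_exp Q (div_ne_zero hjne (j0_ne hb Q)), WithZero.exp_eq_one, div_eq_mul_inv,
      ord_mul Q hjne (inv_ne_zero (j0_ne hb Q)), ord_inv, show Q.ord (f l) = -D Q from ord_j0 hb Q] at hu1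
    show Q.ord (f (j0 hb P)) = _
    omega
  have haW := mem_chart_of_ord k r hdim hb hrat a hjne (ord_j0 hb P)
  have hbW := mem_chart_of_ord k r hdim hb hrat b hjne hjQ
  set W : X.Opens := r ⁻¹ᵁ chartD k j
  have hηW : genericPoint X ∈ W := eta_mem haW
  have hval : ∀ i, P.1 (f i / f j) ≤ 1 ∧ Q.1 (f i / f j) ≤ 1 ∧ pv P (f i / f j) = pv Q (f i / f j) := fun i => by
    have e : f i / f j = (f i / f l) / (f j / f l) := (div_div_div_cancel_right₀ (j0_ne hb Q) _ _).symm
    refine ⟨coord_le_one hb P i, ?_, ?_⟩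
    · rw [e, map_div₀, hu1, _root_.div_one]; exact coord_le_one hb Q i
    · have hi := congrFun hc i
      rw [Pi.smul_apply, smul_eq_mul] at hi
      conv_rhs => rw [e, (pv_div hK (coord_le_one hb Q i) (coord_le_one hb Q j) hQj).2]
      rw [show pv P (f i / f j) = evv hb P i from rfl, hi, show evv hb Q i = pv Q (f i / f l) from rfl,
        eq_div_iff hQj]
      rw [show evv hb Q j = pv Q (f j / f l) from rfl] at hcj
      linear_combination (pv Q (f i / f l)) * (-hcj)
  have hadj : ∀ z ∈ Algebra.adjoin k (Set.range fun i => f i / f j),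
      P.1 z ≤ 1 ∧ Q.1 z ≤ 1 ∧ pv P z = pv Q z := fun z hz => by
    induction hz using Algebra.adjoin_induction with
    | mem x hx => obtain ⟨i, rfl⟩ := hx; exact hval i
    | algebraMap c => exact ⟨P.2.1 c, Q.2.1 c, by rw [pv_const, pv_const]⟩
    | add x y _ _ hx hy =>
      exact ⟨le_one_add hx.1 hy.1, le_one_add hx.2.1 hy.2.1,
        by rw [pv_add hK hx.1 hy.1, pv_add hK hx.2.1 hy.2.1, hx.2.2, hy.2.2]⟩
    | mul x y _ _ hx hy =>
      exact ⟨le_one_mul hx.1 hy.1, le_one_mul hx.2.1 hy.2.1,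
        by rw [pv_mul hK hx.1 hy.1, pv_mul hK hx.2.1 hy.2.1, hx.2.2, hy.2.2]⟩
  by_contra hne
  have hab : a.1 ≠ b.1 := fun e => hne (congrArg (CurveFF.pl k X hdim) (Subtype.ext e))
  have hD : IsAffineOpen (chartD k j) := Proj.isAffineOpen_basicOpen _ _ (ProjPt.X_mem j) one_pos
  have hWa : IsAffineOpen W := hD.preimage r
  obtain ⟨g, hgle, hgb⟩ := hWa.exists_basicOpen_le (V := (⟨{a.1}ᶜ, a.2.isOpen_compl⟩ : X.Opens))
    (⟨b.1, fun e => hab e.symm⟩ : (⟨{a.1}ᶜ, a.2.isOpen_compl⟩ : X.Opens)) hbW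
  obtain ⟨t, rfl⟩ := r.app_surjective (chartD k j) hD g
  have hmem := germ_appLE_mem_algebra k r hr (le_refl W) hηW (Set.range fun i => f i / f j)
    (fun i => ⟨i, (hrat i j W le_rfl hηW).symm⟩) t
  obtain ⟨-, -, hpv⟩ := hadj _ hmem
  have hg : ∀ (z : CurveFF.Pt X) (hzW : z.1 ∈ W),
      (pv (CurveFF.pl k X hdim z) (X.presheaf.germ W _ hηW (r.appLE (chartD k j) W le_rfl t) : X.functionField) = 0 ↔
        z.1 ∉ X.basicOpen (r.app (chartD k j) t)) := fun z hzW => by
    have e : r.appLE (chartD k j) W le_rfl t = r.app (chartD k j) t := by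
      rw [Scheme.Hom.appLE_eq_app]
    rw [e]
    set s := X.presheaf.germ W z.1 hzW (r.app (chartD k j) t) with hsdef
    have hle : (CurveFF.pl k X hdim z).1 (algebraMap (X.presheaf.stalk z.1) X.functionField s) ≤ 1 :=
      (CurveFF.valAt_le_one_iff k X hdim z _).2 ⟨s, rfl⟩
    rw [← algebraMap_germ hzW, X.mem_basicOpen _ z.1 hzW, ← hsdef]
    constructor
    · intro h0 hu
      have h1 := pv_spec hK hle
      rw [h0, map_zero, sub_zero] at h1
      exact (IsLocalRing.mem_maximalIdeal _).1 ((CurveFF.valAt_lt_one_iff k X hdim z s).1 h1) hu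
    · intro hu
      refine pv_eq ?_
      rw [map_zero, sub_zero]
      exact (CurveFF.valAt_lt_one_iff k X hdim z s).2 ((IsLocalRing.mem_maximalIdeal _).2 hu)
  have h1 := (hg a haW).2 fun hm => hgle hm rfl
  rw [hpv] at h1
  exact (hg b hbW).1 h1 hgb

end Groth.Agent.CurvFam16.Castel
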